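import Groth.Agent.WittGrpLib.Basic
import Mathlib.RingTheory.WittVector.Identities

/-!
The flat lifting attached to a quasi-Frobenius-splitting.
-/

set_option autoImplicit false
universe u

open WittGrp

namespace Groth.Agent.QFSplit

variable {p : ℕ} [Fact p.Prime] {m : ℕ} {R : Type u} [CommRing R]

theorem truncate_frob (hp : (p : R) = 0) (y : TruncatedWittVector p (m + 1) R) :
    TruncatedWittVector.truncate (Nat.le_succ m) (frob p (m + 1) hp y) =
      frob p m hp (TruncatedWittVector.truncate (Nat.le_succ m) y) :=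
  TruncatedWittVector.ext fun i => by
    rw [TruncatedWittVector.coeff_truncate, coeff_frob, coeff_frob, TruncatedWittVector.coeff_truncate]

theorem mul_shift (hp : (p : R) = 0) (y : TruncatedWittVector p (m + 1) R) (x : TruncatedWittVector p m R) :
    y * shift p (Nat.le_succ m) x =
      shift p (Nat.le_succ m) (frob p m hp (TruncatedWittVector.truncate (Nat.le_succ m) y) * x) := by
  rw [← truncate_frob hp]
  exact (WittGrpLib.shift_frob_mul hp y x).symm

theorem natCast_mul (hp : (p : R) = 0) (w : TruncatedWittVector p (m + 1) R) :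
    (p : TruncatedWittVector p (m + 1) R) * w =
      shift p (Nat.le_succ m) (frob p m hp (TruncatedWittVector.truncate (Nat.le_succ m) w)) := by
  rcases subsingleton_or_nontrivial R with hR | hR
  · exact TruncatedWittVector.ext fun i => Subsingleton.elim _ _
  haveI : CharP R p := (CharP.charP_iff_prime_eq_zero Fact.out).mpr hp
  obtain ⟨W, rfl⟩ := WittVector.truncate_surjective p (m + 1) R w
  rw [← truncate_frob hp, frob_truncate, TruncatedWittVector.truncate_wittVector_truncate, shift_truncate,
    Nat.succ_sub (le_refl m), Nat.sub_self, Function.iterate_one, WittVector.verschiebung_frobenius,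
    map_mul, map_natCast, mul_comm]

theorem coeff_zero_shift (x : TruncatedWittVector p m R) : (shift p (Nat.le_succ m) x).coeff 0 = 0 := by
  rw [coeff_shift, dif_neg (by simp)]

theorem exists_eq_shift (w : TruncatedWittVector p (m + 1) R) (hw : w.coeff 0 = 0) :
    ∃ x : TruncatedWittVector p m R, w = shift p (Nat.le_succ m) x := by
  refine ⟨TruncatedWittVector.mk p fun i => w.coeff i.succ, TruncatedWittVector.ext fun i => ?_⟩
  rw [coeff_shift]
  rcases Fin.eq_zero_or_eq_succ i with rfl | ⟨j, rfl⟩
  · rw [dif_neg (by simp)]; exact hw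
  · rw [dif_pos (by simp), TruncatedWittVector.coeff_mk]
    refine congrArg w.coeff (Fin.ext ?_)
    simp

theorem shift_injective : Function.Injective (shift (R := R) p (Nat.le_succ m)) := by
  intro a b h
  refine TruncatedWittVector.ext fun i => ?_
  have := congrArg (fun t : TruncatedWittVector p (m + 1) R => t.coeff i.succ) h
  simp only [coeff_shift] at this
  rw [dif_pos (by simp), dif_pos (by simp)] at this
  convert this using 2 <;> exact Fin.ext (by simp)

theorem coeff_zero_map (hm : 0 < m) (w : TruncatedWittVector p (m + 1) R) :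
    (TruncatedWittVector.truncate (Nat.le_succ m) w).coeff ⟨0, hm⟩ = w.coeff 0 :=
  TruncatedWittVector.coeff_truncate _ _ _

variable (hm : 0 < m) (hp : (p : R) = 0) (σ : TruncatedWittVector p m R →+ R) (h1 : σ 1 = 1)
    (hF : ∀ x y : TruncatedWittVector p m R, σ (frob p m hp x * y) = x.coeff ⟨0, hm⟩ * σ y)

include h1 hF in
theorem sigma_frob (z : TruncatedWittVector p m R) : σ (frob p m hp z) = z.coeff ⟨0, hm⟩ := by
  rw [← mul_one (frob p m hp z), hF, h1, mul_one]

include hp hF in
theorem mem_span_iff (w : TruncatedWittVector p (m + 1) R) :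
    w ∈ Ideal.span (shift p (Nat.le_succ m) '' {x : TruncatedWittVector p m R | σ x = 0}) ↔
      ∃ x, σ x = 0 ∧ w = shift p (Nat.le_succ m) x := by
  refine ⟨fun h => ?_, fun ⟨x, hx, hw⟩ => Ideal.subset_span ⟨x, hx, hw.symm⟩⟩
  induction h using Submodule.span_induction with
  | mem a ha => obtain ⟨x, hx, rfl⟩ := ha; exact ⟨x, hx, rfl⟩
  | zero => exact ⟨0, map_zero σ, (map_zero _).symm⟩
  | add a b _ _ ha hb =>
    obtain ⟨x, hx, rfl⟩ := ha
    obtain ⟨y, hy, rfl⟩ := hb
    exact ⟨x + y, by rw [map_add, hx, hy, add_zero], (map_add _ _ _).symm⟩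
  | smul c a _ ha =>
    obtain ⟨x, hx, rfl⟩ := ha
    exact ⟨_, by rw [hF, hx, mul_zero], mul_shift hp c x⟩

include hm hp h1 hF in
theorem flat_lift (I : Ideal (TruncatedWittVector p (m + 1) R))
    (hI : I = Ideal.span (shift p (Nat.le_succ m) '' {x : TruncatedWittVector p m R | σ x = 0})) :
    (∀ w : TruncatedWittVector p (m + 1) R,
        Ideal.Quotient.mk I w ∈ Ideal.span ({(p : TruncatedWittVector p (m + 1) R ⧸ I)} : Set _) ↔
          w.coeff 0 = 0) ∧
    (∀ q : TruncatedWittVector p (m + 1) R ⧸ I,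
        (p : TruncatedWittVector p (m + 1) R ⧸ I) * q = 0 ↔
          q ∈ Ideal.span ({(p : TruncatedWittVector p (m + 1) R ⧸ I)} : Set _)) := by
  have hp' : ((p : TruncatedWittVector p (m + 1) R) : TruncatedWittVector p (m + 1) R) = p := rfl
  have hfst : ∀ w : TruncatedWittVector p (m + 1) R,
      Ideal.Quotient.mk I w ∈ Ideal.span ({(p : TruncatedWittVector p (m + 1) R ⧸ I)} : Set _) ↔ w.coeff 0 = 0 := by
    intro w
    rw [Ideal.mem_span_singleton']
    constructor
    · rintro ⟨q, hq⟩
      obtain ⟨z, rfl⟩ := Ideal.Quotient.mk_surjective q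
      rw [← map_natCast (Ideal.Quotient.mk I), ← map_mul, Ideal.Quotient.eq, hI, mem_span_iff hm hp σ hF] at hq
      obtain ⟨x, -, hx⟩ := hq
      rw [mul_comm z, natCast_mul hp, sub_eq_iff_eq_add', ← sub_eq_iff_eq_add, ← map_sub] at hx
      rw [← hx]
      exact coeff_zero_shift _
    · intro hw
      obtain ⟨x, rfl⟩ := exists_eq_shift w hw
      obtain ⟨z, hz⟩ : ∃ z : TruncatedWittVector p (m + 1) R, z.coeff 0 = σ x :=
        ⟨TruncatedWittVector.mk p fun _ => σ x, TruncatedWittVector.coeff_mk _ _⟩
      refine ⟨Ideal.Quotient.mk I z, ?_⟩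
      rw [← map_natCast (Ideal.Quotient.mk I), ← map_mul, Ideal.Quotient.eq, hI, mem_span_iff hm hp σ hF, mul_comm,
        natCast_mul hp, ← map_sub]
      refine ⟨_, ?_, rfl⟩
      rw [map_sub, sigma_frob hm hp σ h1 hF, coeff_zero_map hm, hz, sub_self]
  refine ⟨hfst, fun q => ?_⟩
  obtain ⟨w, rfl⟩ := Ideal.Quotient.mk_surjective q
  rw [hfst, ← map_natCast (Ideal.Quotient.mk I), ← map_mul, Ideal.Quotient.eq_zero_iff_mem, hI,
    mem_span_iff hm hp σ hF, natCast_mul hp]
  constructor
  · rintro ⟨x, hx, hx'⟩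
    rw [← coeff_zero_map hm w, ← sigma_frob hm hp σ h1 hF, shift_injective hx']
    exact hx
  · intro hw
    exact ⟨_, by rw [sigma_frob hm hp σ h1 hF, coeff_zero_map hm, hw], rfl⟩

end Groth.Agent.QFSplit
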